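import Mathlib.RingTheory.TensorProduct.Maps
import Mathlib.RingTheory.Flat.Basic
import Mathlib.RingTheory.Ideal.Quotient.Operations
import Mathlib.RingTheory.Ideal.Span

/-!
# Glueing pairs base change along flat algebras
-/

set_option linter.style.haveILetI false
universe u

open TensorProduct

namespace Groth.Agent.H9BLHom

variable {A A' : Type u} [CommRing A] [CommRing A'] [Algebra A A'] (t : A)
  {C : Type u} [CommRing C] [Algebra A C]

theorem map_pow_span {R S : Type u} [CommRing R] [CommRing S] (f : R →+* S) (r : R) (m : ℕ) :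
    Ideal.map f (Ideal.span {r} ^ m) = Ideal.span {f r ^ m} := by
  rw [Ideal.map_pow, Ideal.map_span, Set.image_singleton, Ideal.span_singleton_pow]

theorem tensor_quot (m : ℕ)
    (hq : Function.Bijective (Ideal.quotientMap (Ideal.map (algebraMap A A') (Ideal.span {t} ^ m))
      (algebraMap A A') Ideal.le_comap_map)) :
    Function.Bijective (Ideal.quotientMap
      (Ideal.map (Algebra.TensorProduct.includeLeftRingHom : C →+* C ⊗[A] A') (Ideal.span {algebraMap A C t} ^ m))
      (Algebra.TensorProduct.includeLeftRingHom : C →+* C ⊗[A] A') Ideal.le_comap_map) := by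
  constructor
  · let J : Ideal C := Ideal.span {algebraMap A C t} ^ m
    let I : Ideal A := Ideal.span {t} ^ m
    let I' : Ideal A' := Ideal.map (algebraMap A A') (Ideal.span {t} ^ m)
    let e : A ⧸ I ≃+* A' ⧸ I' := RingEquiv.ofBijective _ hq
    have hIJ : I ≤ J.comap (algebraMap A C) := by
      rw [← Ideal.map_le_iff_le_comap, map_pow_span, ← Ideal.span_singleton_pow]
    let g : A ⧸ I →+* C ⧸ J := Ideal.quotientMap J (algebraMap A C) hIJ
    have he : ∀ a, e.symm (Ideal.Quotient.mk I' (algebraMap A A' a)) = Ideal.Quotient.mk I a := fun a =>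
      e.symm_apply_eq.2 rfl
    let β : A' →ₐ[A] C ⧸ J :=
      { __ := g.comp (e.symm.toRingHom.comp (Ideal.Quotient.mk I'))
        commutes' := fun a => by
          show g (e.symm (Ideal.Quotient.mk I' (algebraMap A A' a))) = _
          rw [he]; rfl }
    let L : C ⊗[A] A' →ₐ[A] C ⧸ J :=
      Algebra.TensorProduct.lift (Ideal.Quotient.mkₐ A J) β (fun x y => mul_comm _ _)
    have hL : ∀ c : C, L (c ⊗ₜ 1) = Ideal.Quotient.mk J c := fun c => by
      rw [Algebra.TensorProduct.lift_tmul, map_one, mul_one]; rfl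
    rw [injective_iff_map_eq_zero]
    intro z hz
    obtain ⟨c, rfl⟩ := Ideal.Quotient.mk_surjective z
    rw [Ideal.quotientMap_mk, Ideal.Quotient.eq_zero_iff_mem] at hz
    have h1 : Ideal.map (Algebra.TensorProduct.includeLeftRingHom : C →+* C ⊗[A] A') J ≤ RingHom.ker L := by
      rw [Ideal.map_le_iff_le_comap]
      intro x hx
      show L (x ⊗ₜ 1) = 0
      rw [hL, Ideal.Quotient.eq_zero_iff_mem]; exact hx
    have h2 : L (c ⊗ₜ 1) = 0 := h1 hz
    rwa [hL] at h2
  · intro z
    obtain ⟨x, rfl⟩ := Ideal.Quotient.mk_surjective z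
    induction x using TensorProduct.induction_on with
    | zero => exact ⟨0, by simp⟩
    | add x y hx hy =>
      obtain ⟨a, ha⟩ := hx; obtain ⟨b, hb⟩ := hy
      exact ⟨a + b, by rw [map_add, ha, hb, map_add]⟩
    | tmul c a' =>
      obtain ⟨q, hq'⟩ := hq.2 (Ideal.Quotient.mk _ a')
      obtain ⟨a, rfl⟩ := Ideal.Quotient.mk_surjective q
      rw [Ideal.quotientMap_mk, Ideal.Quotient.eq, map_pow_span, Ideal.mem_span_singleton'] at hq'
      obtain ⟨b, hb⟩ := hq'
      refine ⟨Ideal.Quotient.mk _ (c * algebraMap A C a), ?_⟩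
      rw [Ideal.quotientMap_mk, Ideal.Quotient.eq, map_pow_span, Ideal.mem_span_singleton']
      refine ⟨c ⊗ₜ b, ?_⟩
      have h1 : (algebraMap A C t ⊗ₜ[A] (1 : A')) ^ m = 1 ⊗ₜ[A] (algebraMap A A' t ^ m) := by
        rw [← Algebra.TensorProduct.algebraMap_apply (S := A) (R := A), ← map_pow,
          Algebra.TensorProduct.algebraMap_apply' (R := A), map_pow]
      have h2 : (c * algebraMap A C a) ⊗ₜ[A] (1 : A') = c ⊗ₜ algebraMap A A' a := by
        rw [mul_comm, ← Algebra.smul_def, TensorProduct.smul_tmul, Algebra.algebraMap_eq_smul_one]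
      show c ⊗ₜ b * (algebraMap A C t ⊗ₜ 1) ^ m = (c * algebraMap A C a) ⊗ₜ 1 - c ⊗ₜ a'
      rw [h1, h2, Algebra.TensorProduct.tmul_mul_tmul, mul_one, hb, TensorProduct.tmul_sub]

variable [Module.Flat A C]

theorem tensor_torsion
    (htor : ∀ a' : A', (∃ m : ℕ, algebraMap A A' t ^ m * a' = 0) →
      ∃! a : A, (∃ m : ℕ, t ^ m * a = 0) ∧ algebraMap A A' a = a')
    (z : C ⊗[A] A')
    (hz : ∃ m : ℕ, (Algebra.TensorProduct.includeLeftRingHom : C →+* C ⊗[A] A') (algebraMap A C t) ^ m * z = 0) :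
    ∃! c : C, (∃ m : ℕ, algebraMap A C t ^ m * c = 0) ∧
      (Algebra.TensorProduct.includeLeftRingHom : C →+* C ⊗[A] A') c = z := by
  -- the torsion parts
  let μ : ∀ (m : ℕ), A →ₗ[A] A := fun m => LinearMap.lsmul A A (t ^ m)
  let μ' : ∀ (m : ℕ), A' →ₗ[A] A' := fun m => LinearMap.lsmul A A' (t ^ m)
  let f : A →ₗ[A] A' := Algebra.linearMap A A'
  have hker : ∀ m, ∀ x : LinearMap.ker (μ m), f x.1 ∈ LinearMap.ker (μ' m) := fun m x => by
    rw [LinearMap.mem_ker]
    show t ^ m • f x.1 = 0
    rw [← map_smul]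
    have := x.2
    rw [LinearMap.mem_ker] at this
    exact (congrArg f this).trans (map_zero f)
  let fm : ∀ m, LinearMap.ker (μ m) →ₗ[A] LinearMap.ker (μ' m) := fun m =>
    (f.comp (LinearMap.ker (μ m)).subtype).codRestrict _ (hker m)
  have hfm : ∀ m, Function.Bijective (fm m) := by
    intro m
    constructor
    · intro x y h
      have h' : f x.1 = f y.1 := congrArg Subtype.val h
      have hx : t ^ m * x.1 = 0 := x.2
      have hy : t ^ m * y.1 = 0 := y.2
      obtain ⟨a, -, huniq⟩ := htor (f x.1) ⟨m, by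
        rw [← map_pow]; show algebraMap A A' (t ^ m) * algebraMap A A' x.1 = 0
        rw [← map_mul, hx, map_zero]⟩
      exact Subtype.ext ((huniq x.1 ⟨⟨m, hx⟩, rfl⟩).trans (huniq y.1 ⟨⟨m, hy⟩, h'.symm⟩).symm)
    · rintro ⟨a', ha'⟩
      have ha : algebraMap A A' t ^ m * a' = 0 := by
        rw [← map_pow, ← Algebra.smul_def]; exact ha'
      obtain ⟨a, ⟨⟨j, hj⟩, hfa⟩, -⟩ := htor a' ⟨m, ha⟩
      have hm : t ^ m * a = 0 := by
        obtain ⟨b, -, huniq⟩ := htor 0 ⟨0, mul_zero _⟩
        exact (huniq (t ^ m * a) ⟨⟨j, by rw [mul_left_comm, hj, mul_zero]⟩,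
          by rw [map_mul, map_pow, hfa, ha]⟩).trans
          (huniq 0 ⟨⟨0, mul_zero _⟩, map_zero _⟩).symm
      exact ⟨⟨a, hm⟩, Subtype.ext hfa⟩
  -- exactness
  have hexA : ∀ m, Function.Exact ((LinearMap.ker (μ m)).subtype.lTensor C) ((μ m).lTensor C) :=
    fun m => Module.Flat.lTensor_exact C (μ m).exact_subtype_ker_map
  have hexA' : ∀ m, Function.Exact ((LinearMap.ker (μ' m)).subtype.lTensor C) ((μ' m).lTensor C) :=
    fun m => Module.Flat.lTensor_exact C (μ' m).exact_subtype_ker_map
  have hμ : ∀ m (x : C ⊗[A] A), (μ m).lTensor C x = t ^ m • x := fun m x => by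
    induction x using TensorProduct.induction_on with
    | zero => simp
    | add x y hx hy => rw [map_add, hx, hy, smul_add]
    | tmul c a => rw [LinearMap.lTensor_tmul, ← TensorProduct.tmul_smul]; rfl
  have hμ' : ∀ m (x : C ⊗[A] A'), (μ' m).lTensor C x = t ^ m • x := fun m x => by
    induction x using TensorProduct.induction_on with
    | zero => simp
    | add x y hx hy => rw [map_add, hx, hy, smul_add]
    | tmul c a => rw [LinearMap.lTensor_tmul, ← TensorProduct.tmul_smul]; rfl
  have hι : ∀ m (y : C ⊗[A] LinearMap.ker (μ m)),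
      f.lTensor C ((LinearMap.ker (μ m)).subtype.lTensor C y) =
        (LinearMap.ker (μ' m)).subtype.lTensor C ((fm m).lTensor C y) := fun m y => by
    rw [← LinearMap.lTensor_comp_apply, ← LinearMap.lTensor_comp_apply]
    congr 1
  have hinc : ∀ c : C, (Algebra.TensorProduct.includeLeftRingHom : C →+* C ⊗[A] A') c =
      f.lTensor C ((TensorProduct.rid A C).symm c) := fun c => by
    show c ⊗ₜ[A] (1 : A') = _
    rw [TensorProduct.rid_symm_apply, LinearMap.lTensor_tmul]
    show _ = c ⊗ₜ[A] algebraMap A A' 1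
    rw [map_one]
  have hpow : ∀ m (w : C ⊗[A] A'),
      (Algebra.TensorProduct.includeLeftRingHom : C →+* C ⊗[A] A') (algebraMap A C t) ^ m * w = t ^ m • w := by
    intro m w
    rw [Algebra.smul_def, map_pow]
    rfl
  have htorC : ∀ m (c : C), algebraMap A C t ^ m * c = 0 → ∃ y : C ⊗[A] LinearMap.ker (μ m),
      (LinearMap.ker (μ m)).subtype.lTensor C y = (TensorProduct.rid A C).symm c := by
    intro m c hc
    refine (hexA m _).1 ?_
    rw [hμ, ← map_smul, Algebra.smul_def, map_pow, hc, map_zero]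
  obtain ⟨m, hm⟩ := hz
  rw [hpow] at hm
  obtain ⟨y', hy'⟩ := (hexA' m z).1 (by rw [hμ', hm])
  obtain ⟨y, rfl⟩ := LinearMap.lTensor_surjective C (hfm m).2 y'
  refine ⟨TensorProduct.rid A C ((LinearMap.ker (μ m)).subtype.lTensor C y), ⟨⟨m, ?_⟩, ?_⟩, ?_⟩
  · rw [← map_pow, ← Algebra.smul_def, ← map_smul, ← hμ, (hexA m).apply_apply_eq_zero, map_zero]
  · rw [hinc, LinearEquiv.symm_apply_apply, hι, hy']
  · rintro c ⟨⟨n, hn⟩, hc⟩
    -- compare both at the level `m + n`
    set c₀ := TensorProduct.rid A C ((LinearMap.ker (μ m)).subtype.lTensor C y)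
    have h0 : algebraMap A C t ^ m * c₀ = 0 := by
      rw [← map_pow, ← Algebra.smul_def, ← map_smul, ← hμ, (hexA m).apply_apply_eq_zero, map_zero]
    have hd : algebraMap A C t ^ (m + n) * (c - c₀) = 0 := by
      have e1 : algebraMap A C t ^ (m + n) * c = algebraMap A C t ^ m * (algebraMap A C t ^ n * c) := by ring
      have e2 : algebraMap A C t ^ (m + n) * c₀ = algebraMap A C t ^ n * (algebraMap A C t ^ m * c₀) := by ring
      rw [mul_sub, e1, e2, hn, h0, mul_zero, mul_zero, sub_self]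
    obtain ⟨d, hd'⟩ := htorC _ _ hd
    have hz0 : (Algebra.TensorProduct.includeLeftRingHom : C →+* C ⊗[A] A') (c - c₀) = 0 := by
      rw [map_sub, hc, hinc c₀, LinearEquiv.symm_apply_apply, hι, hy', sub_self]
    rw [hinc, ← hd', hι] at hz0
    have hinj : Function.Injective ((fm (m + n)).lTensor C) :=
      Module.Flat.lTensor_preserves_injective_linearMap _ (hfm _).1
    have hinj' : Function.Injective ((LinearMap.ker (μ' (m + n))).subtype.lTensor C) :=
      Module.Flat.lTensor_preserves_injective_linearMap _ (Submodule.injective_subtype _)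
    have hd0 : d = 0 := hinj (by rw [map_zero]; exact hinj' (by rw [map_zero]; exact hz0))
    rw [hd0, map_zero] at hd'
    exact sub_eq_zero.1 ((TensorProduct.rid A C).symm.injective (by rw [map_zero]; exact hd'.symm))

end Groth.Agent.H9BLHom
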