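import Mathlib.CategoryTheory.Comma.Over.Pullback
import Mathlib.AlgebraicGeometry.Pullbacks

/-!
# Glueing morphisms: the formal part
-/

set_option linter.style.haveILetI false
set_option backward.isDefEq.respectTransparency false
set_option backward.isDefEq.respectTransparency.types false
universe u

open CategoryTheory CategoryTheory.Limits AlgebraicGeometry

namespace Groth.Agent.H9BLHom

variable {S Bt Bp Bq : Scheme.{u}} {jt : Bt ⟶ S} {jp : Bp ⟶ S} {wt : Bq ⟶ Bt} {wp : Bq ⟶ Bp}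
  {Y W : Over S}

/-- The restriction along `j` of `f` is `a`. -/
def Restr {B : Scheme.{u}} (j : B ⟶ S) (a : (Over.pullback j).obj Y ⟶ (Over.pullback j).obj W)
    {U : Scheme.{u}} (u : U ⟶ Y.left) (f : U ⟶ W.left) : Prop :=
  ∀ (T : Scheme.{u}) (c : T ⟶ B) (y : T ⟶ U) (h : (y ≫ u) ≫ Y.hom = c ≫ j),
    y ≫ f = pullback.lift (y ≫ u) c h ≫ a.left ≫ pullback.fst W.hom j

theorem Restr.comp {B : Scheme.{u}} {j : B ⟶ S}
    {a : (Over.pullback j).obj Y ⟶ (Over.pullback j).obj W} {U U' : Scheme.{u}} {u : U ⟶ Y.left} {f : U ⟶ W.left}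
    (hf : Restr j a u f) (v : U' ⟶ U) : Restr j a (v ≫ u) (v ≫ f) := by
  intro T c y h
  have := hf T c (y ≫ v) (by simpa using h)
  rw [← Category.assoc, this]
  simp only [Category.assoc]

/-- Agreement of two restrictions over `Bq`. -/
def Compat (jt : Bt ⟶ S) (jp : Bp ⟶ S) (wt : Bq ⟶ Bt) (wp : Bq ⟶ Bp)
    (a : (Over.pullback jt).obj Y ⟶ (Over.pullback jt).obj W)
    (b : (Over.pullback jp).obj Y ⟶ (Over.pullback jp).obj W) : Prop :=
  ∀ (T : Scheme.{u}) (c : T ⟶ Bq) (y : T ⟶ Y.left)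
    (h : y ≫ Y.hom = (c ≫ wt) ≫ jt) (h' : y ≫ Y.hom = (c ≫ wp) ≫ jp),
    pullback.lift y (c ≫ wt) h ≫ a.left ≫ pullback.fst W.hom jt =
      pullback.lift y (c ≫ wp) h' ≫ b.left ≫ pullback.fst W.hom jp

theorem left_fst_hom {B : Scheme.{u}} (j : B ⟶ S) (d : (Over.pullback j).obj Y ⟶ (Over.pullback j).obj W) :
    d.left ≫ pullback.fst W.hom j ≫ W.hom = pullback.snd Y.hom j ≫ j := by
  have h1 : d.left ≫ pullback.snd W.hom j = pullback.snd Y.hom j := Over.w d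
  rw [pullback.condition, reassoc_of% h1]

/-- Existence on one chart. -/
theorem core_exists {L Lt Lp Lq : Scheme.{u}} (u : L ⟶ Y.left) (jL : L ⟶ S) (hjL : u ≫ Y.hom = jL)
    {it : Lt ⟶ L} {ip : Lp ⟶ L} {qt : Lq ⟶ Lt} {qp : Lq ⟶ Lp}
    {rt : Lt ⟶ Bt} {rp : Lp ⟶ Bp} {rq : Lq ⟶ Bq}
    (hLt : IsPullback it rt jL jt) (hLp : IsPullback ip rp jL jp)
    (e1 : qt ≫ it = qp ≫ ip) (e2 : rq ≫ wp = qp ≫ rp) (e3 : rq ≫ wt = qt ≫ rt)
    (hw : wt ≫ jt = wp ≫ jp)
    (hex : ∀ (xp : Lp ⟶ pullback W.hom jL) (xt : Lt ⟶ pullback W.hom jL),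
      xp ≫ pullback.snd W.hom jL = ip → xt ≫ pullback.snd W.hom jL = it → qp ≫ xp = qt ≫ xt →
      ∃ s : L ⟶ pullback W.hom jL, s ≫ pullback.snd W.hom jL = 𝟙 _ ∧ ip ≫ s = xp ∧ it ≫ s = xt)
    {a : (Over.pullback jt).obj Y ⟶ (Over.pullback jt).obj W}
    {b : (Over.pullback jp).obj Y ⟶ (Over.pullback jp).obj W} (hab : Compat jt jp wt wp a b) :
    ∃ f : L ⟶ W.left, f ≫ W.hom = jL ∧ Restr jt a u f ∧ Restr jp b u f := by
  let Yt : Lt ⟶ pullback Y.hom jt := pullback.lift (it ≫ u) rt (by rw [Category.assoc, hjL, hLt.w])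
  let Yp : Lp ⟶ pullback Y.hom jp := pullback.lift (ip ≫ u) rp (by rw [Category.assoc, hjL, hLp.w])
  let xt : Lt ⟶ pullback W.hom jL := pullback.lift (Yt ≫ a.left ≫ pullback.fst W.hom jt) it (by
    rw [Category.assoc, Category.assoc, left_fst_hom, pullback.lift_snd_assoc, hLt.w])
  let xp : Lp ⟶ pullback W.hom jL := pullback.lift (Yp ≫ b.left ≫ pullback.fst W.hom jp) ip (by
    rw [Category.assoc, Category.assoc, left_fst_hom, pullback.lift_snd_assoc, hLp.w])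
  have h' : (qp ≫ ip ≫ u) ≫ Y.hom = (rq ≫ wp) ≫ jp := by
    rw [e2, Category.assoc, Category.assoc, Category.assoc, hjL, hLp.w]
  have h : (qp ≫ ip ≫ u) ≫ Y.hom = (rq ≫ wt) ≫ jt := by
    rw [h', Category.assoc, Category.assoc, hw]
  have key := hab Lq rq (qp ≫ ip ≫ u) h h'
  have f1 : pullback.lift (qp ≫ ip ≫ u) (rq ≫ wp) h' = qp ≫ Yp := by
    apply pullback.hom_ext <;> simp [Yp, e2]
  have f2 : pullback.lift (qp ≫ ip ≫ u) (rq ≫ wt) h = qt ≫ Yt := by
    apply pullback.hom_ext <;> simp [Yt, e3, reassoc_of% e1]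
  rw [f1, f2, Category.assoc, Category.assoc] at key
  obtain ⟨s, hs, hsp, hst⟩ := hex xp xt (pullback.lift_snd _ _ _) (pullback.lift_snd _ _ _) (by
    apply pullback.hom_ext <;> simp [xp, xt, key, e1])
  refine ⟨s ≫ pullback.fst W.hom jL, ?_, fun T c y hy => ?_, fun T c y hy => ?_⟩
  · rw [Category.assoc, pullback.condition, reassoc_of% hs]
  · have hl1 := hLt.lift_fst y c (by rw [← hjL, ← Category.assoc]; exact hy)
    have hl2 := hLt.lift_snd y c (by rw [← hjL, ← Category.assoc]; exact hy)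
    set l := hLt.lift y c (by rw [← hjL, ← Category.assoc]; exact hy)
    have : pullback.lift (y ≫ u) c hy = l ≫ Yt := by
      apply pullback.hom_ext <;> simp [Yt, reassoc_of% hl1, hl2]
    rw [this, ← hl1, Category.assoc, reassoc_of% hst]
    simp [xt]
  · have hl1 := hLp.lift_fst y c (by rw [← hjL, ← Category.assoc]; exact hy)
    have hl2 := hLp.lift_snd y c (by rw [← hjL, ← Category.assoc]; exact hy)
    set l := hLp.lift y c (by rw [← hjL, ← Category.assoc]; exact hy)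
    have : pullback.lift (y ≫ u) c hy = l ≫ Yp := by
      apply pullback.hom_ext <;> simp [Yp, reassoc_of% hl1, hl2]
    rw [this, ← hl1, Category.assoc, reassoc_of% hsp]
    simp [xp]

/-- Uniqueness on one chart. -/
theorem core_unique {L Lt Lp : Scheme.{u}} (jL : L ⟶ S) {it : Lt ⟶ L} {ip : Lp ⟶ L}
    (huniq : ∀ s₁ s₂ : L ⟶ pullback W.hom jL, s₁ ≫ pullback.snd W.hom jL = 𝟙 _ →
      s₂ ≫ pullback.snd W.hom jL = 𝟙 _ → ip ≫ s₁ = ip ≫ s₂ → it ≫ s₁ = it ≫ s₂ → s₁ = s₂)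
    (f g : L ⟶ W.left) (hf : f ≫ W.hom = jL) (hg : g ≫ W.hom = jL) (ht : it ≫ f = it ≫ g)
    (hp : ip ≫ f = ip ≫ g) : f = g := by
  have := huniq (pullback.lift f (𝟙 L) (by rw [hf, Category.id_comp]))
    (pullback.lift g (𝟙 L) (by rw [hg, Category.id_comp])) (pullback.lift_snd _ _ _) (pullback.lift_snd _ _ _)
    (by apply pullback.hom_ext <;> simp [hp]) (by apply pullback.hom_ext <;> simp [ht])
  simpa using congrArg (· ≫ pullback.fst W.hom jL) this

end Groth.Agent.H9BLHom
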