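import Groth.Agent.H9BLHom.Alg
import Groth.Agent.H9BLHom.Core
import Groth.Agent.S15769
import Mathlib.AlgebraicGeometry.Morphisms.Flat
import Mathlib.Algebra.Category.Ring.Constructions

/-!
# Glueing morphisms from a flat scheme to a quasi-affine scheme along a glueing pair
-/

set_option linter.style.haveILetI false
set_option backward.isDefEq.respectTransparency false
set_option backward.isDefEq.respectTransparency.types false
universe u

open CategoryTheory CategoryTheory.Limits AlgebraicGeometry
open TensorProduct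

namespace Groth.Agent.H9BLHom

/-- The glueing-pair hypotheses. -/
structure IsPair {A A' : Type u} [CommRing A] [CommRing A'] (φ : A →+* A') (t : A) : Prop where
  hq : ∀ m : ℕ, Function.Bijective (Ideal.quotientMap (Ideal.map φ (Ideal.span {t} ^ m)) φ Ideal.le_comap_map)
  htor : ∀ a' : A', (∃ m : ℕ, φ t ^ m * a' = 0) → ∃! a : A, (∃ m : ℕ, t ^ m * a = 0) ∧ φ a = a'

variable {A A' : Type u} [CommRing A] [CommRing A'] (φ : A →+* A') (t : A)

/-- `Spec A[1/t] ⟶ Spec A`. -/
noncomputable abbrev jT : Spec (CommRingCat.of (Localization.Away t)) ⟶ Spec (CommRingCat.of A) :=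
  Spec.map (CommRingCat.ofHom (algebraMap A (Localization.Away t)))

/-- `Spec A' ⟶ Spec A`. -/
noncomputable abbrev jP : Spec (CommRingCat.of A') ⟶ Spec (CommRingCat.of A) :=
  Spec.map (CommRingCat.ofHom φ)

/-- `Spec A'[1/t] ⟶ Spec A[1/t]`. -/
noncomputable abbrev wT : Spec (CommRingCat.of (Localization.Away (φ t))) ⟶
    Spec (CommRingCat.of (Localization.Away t)) :=
  Spec.map (CommRingCat.ofHom (Localization.awayMap φ t))

/-- `Spec A'[1/t] ⟶ Spec A'`. -/
noncomputable abbrev wP : Spec (CommRingCat.of (Localization.Away (φ t))) ⟶ Spec (CommRingCat.of A') :=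
  Spec.map (CommRingCat.ofHom (algebraMap A' (Localization.Away (φ t))))

theorem square : wT φ t ≫ jT t = wP φ t ≫ jP φ := by
  rw [← Spec.map_comp, ← Spec.map_comp]
  congr 1
  refine CommRingCat.hom_ext (RingHom.ext fun a => ?_)
  show Localization.awayMap φ t (algebraMap A (Localization.Away t) a) =
    algebraMap A' (Localization.Away (φ t)) (φ a)
  simp [Localization.awayMap, IsLocalization.Away.map]

/-- The base change of a basic open. -/
theorem isPullback_away {C : Type u} [CommRing C] (γ : A →+* C)
    (ρ : Localization.Away t →+* Localization.Away (γ t))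
    (hρ : ∀ x, ρ (algebraMap A (Localization.Away t) x) = algebraMap C (Localization.Away (γ t)) (γ x)) :
    IsPullback (Spec.map (CommRingCat.ofHom (algebraMap C (Localization.Away (γ t)))))
      (Spec.map (CommRingCat.ofHom ρ)) (Spec.map (CommRingCat.ofHom γ)) (jT t) := by
  haveI : IsOpenImmersion (Spec.map (CommRingCat.ofHom (algebraMap C (Localization.Away (γ t))))) :=
    IsOpenImmersion.of_isLocalization (γ t)
  haveI : IsOpenImmersion (jT t) := IsOpenImmersion.of_isLocalization t
  refine IsPullback.flip (IsOpenImmersion.isPullback _ _ _ _ ?_ ?_)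
  · rw [← Spec.map_comp, ← Spec.map_comp]
    congr 1
    refine CommRingCat.hom_ext (RingHom.ext fun x => ?_)
    exact (hρ x).symm
  · apply TopologicalSpace.Opens.ext
    show (PrimeSpectrum.comap γ) ⁻¹' Set.range (PrimeSpectrum.comap (algebraMap A (Localization.Away t))) =
      Set.range (PrimeSpectrum.comap (algebraMap C (Localization.Away (γ t))))
    rw [PrimeSpectrum.localization_away_comap_range _ (γ t), PrimeSpectrum.localization_away_comap_range _ t]
    rfl

variable {φ t}

variable {Y W : Over (Spec (CommRingCat.of A))}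

theorem affine_aux (hp : IsPair φ t) [W.left.IsQuasiAffine] (C : Type u) [CommRing C]
    (u : Spec (CommRingCat.of C) ⟶ Y.left) [Flat (u ≫ Y.hom)] :
    (∀ (f g : Spec (CommRingCat.of C) ⟶ W.left), f ≫ W.hom = u ≫ Y.hom → g ≫ W.hom = u ≫ Y.hom →
      (∀ (T : Scheme.{u}) (c : T ⟶ Spec (CommRingCat.of (Localization.Away t)))
        (y : T ⟶ Spec (CommRingCat.of C)), y ≫ u ≫ Y.hom = c ≫ jT t → y ≫ f = y ≫ g) →
      (∀ (T : Scheme.{u}) (c : T ⟶ Spec (CommRingCat.of A')) (y : T ⟶ Spec (CommRingCat.of C)),
        y ≫ u ≫ Y.hom = c ≫ jP φ → y ≫ f = y ≫ g) → f = g) ∧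
    ∀ (a : (Over.pullback (jT t)).obj Y ⟶ (Over.pullback (jT t)).obj W)
      (b : (Over.pullback (jP φ)).obj Y ⟶ (Over.pullback (jP φ)).obj W),
      Compat (jT t) (jP φ) (wT φ t) (wP φ t) a b →
      ∃ f : Spec (CommRingCat.of C) ⟶ W.left, f ≫ W.hom = u ≫ Y.hom ∧ Restr (jT t) a u f ∧
        Restr (jP φ) b u f := by
  obtain ⟨γ, hγ⟩ := Spec.map_surjective (u ≫ Y.hom)
  letI := φ.toAlgebra
  letI : Algebra A C := γ.hom.toAlgebra
  haveI : Module.Flat A C := by
    have : Flat (Spec.map γ) := hγ ▸ inferInstance
    exact (HasRingHomProperty.Spec_iff (P := @Flat)).1 this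
  have hpC : IsPair (Algebra.TensorProduct.includeLeftRingHom : C →+* C ⊗[A] A') (γ.hom t) :=
    ⟨fun m => tensor_quot t m (hp.hq m), fun z hz => tensor_torsion t hp.htor z hz⟩
  haveI : IsAffineHom (pullback.fst W.hom (Spec.map γ)) := MorphismProperty.pullback_fst _ _ inferInstance
  haveI : (pullback W.hom (Spec.map γ)).IsQuasiAffine :=
    Scheme.IsQuasiAffine.of_isAffineHom (pullback.fst W.hom (Spec.map γ))
  obtain ⟨huniq, hex⟩ := S15769.result C (C ⊗[A] A') Algebra.TensorProduct.includeLeftRingHom (γ.hom t)
    hpC.hq hpC.htor (pullback W.hom (Spec.map γ)) (pullback.snd W.hom (Spec.map γ))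
  obtain ⟨ρt, hρt⟩ : ∃ ρt : Localization.Away t →+* Localization.Away (γ.hom t),
      ∀ x, ρt (algebraMap A (Localization.Away t) x) = algebraMap C (Localization.Away (γ.hom t)) (γ.hom x) :=
    ⟨IsLocalization.Away.lift t (g := (algebraMap C (Localization.Away (γ.hom t))).comp γ.hom)
      (IsLocalization.Away.algebraMap_isUnit (γ.hom t)), fun x => IsLocalization.Away.lift_eq _ _ x⟩
  have hLp : IsPullback
      (Spec.map (CommRingCat.ofHom (Algebra.TensorProduct.includeLeftRingHom : C →+* C ⊗[A] A')))
      (Spec.map (CommRingCat.ofHom (Algebra.TensorProduct.includeRight (R := A) (A := C) (B := A')).toRingHom))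
      (Spec.map γ) (jP φ) :=
    isPullback_SpecMap_of_isPushout _ _ _ _ (CommRingCat.isPushout_tensorProduct A C A')
  have hLt := isPullback_away t γ.hom ρt hρt
  refine ⟨fun f g hf hg hgt hgp => ?_, fun a b hab => ?_⟩
  · refine core_unique (Spec.map γ) huniq f g (hf.trans hγ.symm) (hg.trans hγ.symm)
      (hgt _ (Spec.map (CommRingCat.ofHom ρt)) _ (by rw [← hγ]; exact hLt.w))
      (hgp _ (Spec.map (CommRingCat.ofHom
        (Algebra.TensorProduct.includeRight (R := A) (A := C) (B := A')).toRingHom)) _
        (by rw [← hγ]; exact hLp.w))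
  · obtain ⟨lamq, hlamq⟩ : ∃ lamq : Localization.Away (φ t) →+*
        Localization.Away ((Algebra.TensorProduct.includeLeftRingHom : C →+* C ⊗[A] A') (γ.hom t)),
        ∀ x, lamq (algebraMap A' (Localization.Away (φ t)) x) =
          algebraMap (C ⊗[A] A') (Localization.Away ((Algebra.TensorProduct.includeLeftRingHom : C →+* C ⊗[A] A') (γ.hom t)))
            ((Algebra.TensorProduct.includeRight (R := A) (A := C) (B := A')).toRingHom x) := by
      refine ⟨IsLocalization.Away.lift (φ t) (g := (algebraMap (C ⊗[A] A') _).comp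
        (Algebra.TensorProduct.includeRight (R := A) (A := C) (B := A')).toRingHom) ?_,
        fun x => IsLocalization.Away.lift_eq _ _ x⟩
      have e : (Algebra.TensorProduct.includeRight (R := A) (A := C) (B := A')).toRingHom (φ t) =
          (Algebra.TensorProduct.includeLeftRingHom : C →+* C ⊗[A] A') (γ.hom t) :=
        ((Algebra.TensorProduct.includeRight (R := A) (A := C) (B := A')).commutes t).trans
          (Algebra.TensorProduct.includeLeft.commutes t).symm
      show IsUnit (algebraMap (C ⊗[A] A') _ _)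
      rw [e]
      exact IsLocalization.Away.algebraMap_isUnit _
    have e2 : Spec.map (CommRingCat.ofHom lamq) ≫ wP φ t =
        Spec.map (CommRingCat.ofHom (algebraMap (C ⊗[A] A') (Localization.Away
          ((Algebra.TensorProduct.includeLeftRingHom : C →+* C ⊗[A] A') (γ.hom t))))) ≫
          Spec.map (CommRingCat.ofHom (Algebra.TensorProduct.includeRight (R := A) (A := C) (B := A')).toRingHom) := by
      rw [← Spec.map_comp, ← Spec.map_comp]
      congr 1
      exact CommRingCat.hom_ext (RingHom.ext hlamq)
    have e3 : Spec.map (CommRingCat.ofHom lamq) ≫ wT φ t =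
        Spec.map (CommRingCat.ofHom (Localization.awayMap
          (Algebra.TensorProduct.includeLeftRingHom : C →+* C ⊗[A] A') (γ.hom t))) ≫
          Spec.map (CommRingCat.ofHom ρt) := by
      rw [← Spec.map_comp, ← Spec.map_comp]
      congr 1
      refine CommRingCat.hom_ext (IsLocalization.ringHom_ext (Submonoid.powers t) (RingHom.ext fun x => ?_))
      show lamq (Localization.awayMap φ t (algebraMap A (Localization.Away t) x)) =
        Localization.awayMap _ (γ.hom t) (ρt (algebraMap A (Localization.Away t) x))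
      rw [hρt]
      simp only [Localization.awayMap, IsLocalization.Away.map, IsLocalization.map_eq]
      rw [hlamq]
      exact congrArg _ (((Algebra.TensorProduct.includeRight (R := A) (A := C) (B := A')).commutes x).trans
        (Algebra.TensorProduct.includeLeft.commutes x).symm)
    obtain ⟨f, h1, h2, h3⟩ := core_exists (W := W) u (Spec.map γ) hγ.symm
      hLt hLp (square _ _) e2 e3 (square φ t) hex hab
    exact ⟨f, h1.trans hγ, h2, h3⟩

end Groth.Agent.H9BLHom
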