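import Groth.Agent.H9BLHom.Glue

/-!
# Glueing morphisms from a flat scheme to a quasi-affine scheme: global form
-/

set_option linter.style.haveILetI false
set_option backward.isDefEq.respectTransparency false
set_option backward.isDefEq.respectTransparency.types false
universe u

open CategoryTheory CategoryTheory.Limits AlgebraicGeometry

namespace Groth.Agent.H9BLHom

variable {A A' : Type u} [CommRing A] [CommRing A'] {φ : A →+* A'} {t : A}
  {Y W : Over (Spec (CommRingCat.of A))}

theorem ext_aux (hp : IsPair φ t) [W.left.IsQuasiAffine] [Flat Y.hom]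
    {U : Scheme.{u}} (u : U ⟶ Y.left) [IsOpenImmersion u]
    {f g : U ⟶ W.left} (hf : f ≫ W.hom = u ≫ Y.hom) (hg : g ≫ W.hom = u ≫ Y.hom)
    (ht : ∀ (T : Scheme.{u}) (c : T ⟶ Spec (CommRingCat.of (Localization.Away t))) (y : T ⟶ U),
      y ≫ u ≫ Y.hom = c ≫ jT t → y ≫ f = y ≫ g)
    (hq : ∀ (T : Scheme.{u}) (c : T ⟶ Spec (CommRingCat.of A')) (y : T ⟶ U),
      y ≫ u ≫ Y.hom = c ≫ jP φ → y ≫ f = y ≫ g) : f = g := by
  refine U.affineCover.hom_ext _ _ fun i => ?_
  let v : Spec (CommRingCat.of _) ⟶ U := U.affineCover.f i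
  haveI : Flat ((v ≫ u) ≫ Y.hom) := inferInstance
  refine (affine_aux hp _ (v ≫ u)).1 (v ≫ f) (v ≫ g) ?_ ?_ ?_ ?_
  · rw [Category.assoc, hf, Category.assoc]
  · rw [Category.assoc, hg, Category.assoc]
  · intro T c y h
    rw [← Category.assoc, ← Category.assoc]
    exact ht T c (y ≫ v) (by simpa using h)
  · intro T c y h
    rw [← Category.assoc, ← Category.assoc]
    exact hq T c (y ≫ v) (by simpa using h)

theorem restr_unique (hp : IsPair φ t) [W.left.IsQuasiAffine] [Flat Y.hom]
    {a : (Over.pullback (jT t)).obj Y ⟶ (Over.pullback (jT t)).obj W}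
    {b : (Over.pullback (jP φ)).obj Y ⟶ (Over.pullback (jP φ)).obj W}
    {U : Scheme.{u}} (u : U ⟶ Y.left) [IsOpenImmersion u]
    {f g : U ⟶ W.left} (hf : f ≫ W.hom = u ≫ Y.hom) (hg : g ≫ W.hom = u ≫ Y.hom)
    (hft : Restr (jT t) a u f) (hgt : Restr (jT t) a u g)
    (hfp : Restr (jP φ) b u f) (hgp : Restr (jP φ) b u g) : f = g := by
  refine ext_aux hp u hf hg (fun T c y h => ?_) (fun T c y h => ?_)
  · rw [hft T c y (by simpa using h), hgt T c y (by simpa using h)]
  · rw [hfp T c y (by simpa using h), hgp T c y (by simpa using h)]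

/-- Morphisms from a flat scheme to a quasi-affine one are determined by their restrictions. -/
theorem hom_ext_pair (hp : IsPair φ t) [W.left.IsQuasiAffine] [Flat Y.hom] {f g : Y ⟶ W}
    (ht : (Over.pullback (jT t)).map f = (Over.pullback (jT t)).map g)
    (hq : (Over.pullback (jP φ)).map f = (Over.pullback (jP φ)).map g) : f = g := by
  apply Over.OverMorphism.ext
  have key : ∀ {B : Scheme.{u}} (j : B ⟶ Spec (CommRingCat.of A))
      (he : (Over.pullback j).map f = (Over.pullback j).map g) (T : Scheme.{u}) (c : T ⟶ B) (y : T ⟶ Y.left),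
      y ≫ 𝟙 Y.left ≫ Y.hom = c ≫ j → y ≫ f.left = y ≫ g.left := by
    intro B j he T c y h
    have h' : y ≫ Y.hom = c ≫ j := by simpa using h
    have := congrArg (fun m => pullback.lift y c h' ≫ m.left ≫ pullback.fst W.hom j) he
    simpa [pullback.lift_fst_assoc] using this
  exact ext_aux hp (𝟙 Y.left) (by simp) (by simp) (key _ ht) (key _ hq)

/-- Compatible morphisms over the two pieces glue. -/
theorem exists_hom_pair (hp : IsPair φ t) [W.left.IsQuasiAffine] [Flat Y.hom]
    (a : (Over.pullback (jT t)).obj Y ⟶ (Over.pullback (jT t)).obj W)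
    (b : (Over.pullback (jP φ)).obj Y ⟶ (Over.pullback (jP φ)).obj W)
    (hab : Compat (jT t) (jP φ) (wT φ t) (wP φ t) a b) :
    ∃ f : Y ⟶ W, (Over.pullback (jT t)).map f = a ∧ (Over.pullback (jP φ)).map f = b := by
  classical
  let 𝒰 := Y.left.affineCover
  have hloc : ∀ i, ∃ f : 𝒰.X i ⟶ W.left, f ≫ W.hom = 𝒰.f i ≫ Y.hom ∧
      Restr (jT t) a (𝒰.f i) f ∧ Restr (jP φ) b (𝒰.f i) f := fun i => by
    let v : Spec (CommRingCat.of _) ⟶ Y.left := 𝒰.f i
    haveI : Flat (v ≫ Y.hom) := inferInstance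
    exact (affine_aux hp _ v).2 a b hab
  choose g hgW hgt hgp using hloc
  have hcomp : ∀ i j, pullback.fst (𝒰.f i) (𝒰.f j) ≫ g i = pullback.snd (𝒰.f i) (𝒰.f j) ≫ g j := by
    intro i j
    have e := pullback.condition (f := 𝒰.f i) (g := 𝒰.f j)
    refine restr_unique hp (a := a) (b := b) (pullback.fst (𝒰.f i) (𝒰.f j) ≫ 𝒰.f i) ?_ ?_
      ((hgt i).comp _) ?_ ((hgp i).comp _) ?_
    · rw [Category.assoc, hgW, Category.assoc]
    · rw [Category.assoc, hgW, e, Category.assoc]
    · rw [e]; exact (hgt j).comp _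
    · rw [e]; exact (hgp j).comp _
  let f := 𝒰.glueMorphisms g hcomp
  have hf : ∀ i, 𝒰.f i ≫ f = g i := fun i => 𝒰.ι_glueMorphisms g hcomp i
  have hfW : f ≫ W.hom = Y.hom := 𝒰.hom_ext _ _ fun i => by rw [← Category.assoc, hf, hgW]
  have key : ∀ {B : Scheme.{u}} (j : B ⟶ Spec (CommRingCat.of A))
      (d : (Over.pullback j).obj Y ⟶ (Over.pullback j).obj W),
      (∀ i, Restr j d (𝒰.f i) (g i)) → (Over.pullback j).map (Over.homMk f hfW : Y ⟶ W) = d := by
    intro B j d hd
    apply Over.OverMorphism.ext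
    apply pullback.hom_ext
    · rw [show ((Over.pullback j).map (Over.homMk f hfW : Y ⟶ W)).left ≫ pullback.fst W.hom j =
        pullback.fst Y.hom j ≫ f from pullback.lift_fst _ _ _]
      refine (Scheme.Cover.hom_ext (𝒰.pullback₁ (pullback.fst Y.hom j))) _ _ fun i => ?_
      let y := pullback.snd (pullback.fst Y.hom j) (𝒰.f i)
      let p := pullback.fst (pullback.fst Y.hom j) (𝒰.f i)
      show p ≫ pullback.fst Y.hom j ≫ f = p ≫ d.left ≫ pullback.fst W.hom j
      have hw : p ≫ pullback.fst Y.hom j = y ≫ 𝒰.f i := pullback.condition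
      have h1 : (y ≫ 𝒰.f i) ≫ Y.hom = (p ≫ pullback.snd Y.hom j) ≫ j := by
        rw [← hw, Category.assoc, Category.assoc, pullback.condition]
      have h2 := hd i _ (p ≫ pullback.snd Y.hom j) y h1
      rw [← Category.assoc, hw, Category.assoc, hf, h2]
      congr 1
      apply pullback.hom_ext
      · rw [pullback.lift_fst, hw]
      · rw [pullback.lift_snd]
    · exact (Over.w ((Over.pullback j).map (Over.homMk f hfW : Y ⟶ W))).trans (Over.w d).symm
  exact ⟨Over.homMk f hfW, key _ a hgt, key _ b hgp⟩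

end Groth.Agent.H9BLHom
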