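import Groth.Agent.H9BLHom.Core
import Groth.Prelude.Def_ActBC

/-!
# Compatibility from the cocycle identity
-/

set_option linter.style.haveILetI false
set_option backward.isDefEq.respectTransparency false
set_option backward.isDefEq.respectTransparency.types false
universe u

open CategoryTheory CategoryTheory.Limits AlgebraicGeometry

namespace Groth.Agent.H9BLHom

variable {S Bt Bp Bq : Scheme.{u}} {jt : Bt ⟶ S} {jp : Bp ⟶ S} {wt : Bq ⟶ Bt} {wp : Bq ⟶ Bp}
  {X X' : Over S}

theorem compat_of_agree (h : wt ≫ jt = wp ≫ jp) (a : Red.bc jt X ≅ Red.bc jt X') (b : Red.bc jp X ≅ Red.bc jp X')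
    (hag : ((Over.pullback wt).mapIso a).hom ≫ (ActBC.bcCompIso wt jt X' h).hom =
      (ActBC.bcCompIso wt jt X h).hom ≫ (ActBC.bcCompIso wp jp X rfl).inv ≫
        ((Over.pullback wp).mapIso b).hom ≫ (ActBC.bcCompIso wp jp X' rfl).hom) :
    Compat jt jp wt wp a.hom b.hom := by
  intro T c y hy hy'
  let w : T ⟶ (Red.bc wt (Red.bc jt X)).left :=
    pullback.lift (pullback.lift y (c ≫ wt) hy) c (pullback.lift_snd _ _ _)
  let w' : T ⟶ (Red.bc wp (Red.bc jp X)).left :=
    pullback.lift (pullback.lift y (c ≫ wp) hy') c (pullback.lift_snd _ _ _)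
  have hww : w ≫ (ActBC.bcCompIso wt jt X h).hom.left = w' ≫ (ActBC.bcCompIso wp jp X rfl).hom.left := by
    apply pullback.hom_ext <;> simp [w, w']
  have hwi : w ≫ (ActBC.bcCompIso wt jt X h).hom.left ≫ (ActBC.bcCompIso wp jp X rfl).inv.left = w' := by
    rw [reassoc_of% hww, ← Over.comp_left, Iso.hom_inv_id]
    exact Category.comp_id _
  have key := congrArg (fun m => w ≫ m.left ≫ pullback.fst X'.hom (wp ≫ jp)) hag
  simp only [Over.comp_left, Category.assoc, ActBC.bcCompIso_hom_left_fst, reassoc_of% hwi] at key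
  have m1 : ((Over.pullback wt).mapIso a).hom.left ≫ pullback.fst (Red.bc jt X').hom wt =
      pullback.fst (Red.bc jt X).hom wt ≫ a.hom.left := pullback.lift_fst _ _ _
  have m2 : ((Over.pullback wp).mapIso b).hom.left ≫ pullback.fst (Red.bc jp X').hom wp =
      pullback.fst (Red.bc jp X).hom wp ≫ b.hom.left := pullback.lift_fst _ _ _
  simp only [reassoc_of% m1, reassoc_of% m2, w, w', pullback.lift_fst_assoc] at key
  exact key

end Groth.Agent.H9BLHom
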